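import Cfsg.Agent.E7P.Rsl.Fam
import Cfsg.Agent.E7P.Nt.All
import Cfsg.Agent.E7P.Top.Ssc

/-!
# S5932: the algebraic overgroup in standard position (helper61)

* `Sit.Alg.X` : the factors, conjugated by `g⁻¹`; `Sit.Alg.ss` : the Lie algebra of the overgroup, `ss_stb`;
* `Sit.Alg.fam` : the family.
-/

set_option autoImplicit false
set_option maxRecDepth 100000
set_option maxHeartbeats 400000

namespace Cfsg.Agent.E7P

open Cfsg Cfsg.Lie Matrix Module Polynomial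
open Cfsg.Agent.H943.E7V.Block (D1 rho)
open Cfsg.Agent.R2.T1 Cfsg.Agent.E7P.Kf Cfsg.Agent.E7P.Rsl
open Cfsg.Agent.R2.PX (del)
open Cfsg.Agent.H943.SL2Rel (u w h)

universe u v

namespace Sit

variable {p a b : ℕ} {F : Type u} {K : Type v} {k : Type u} [Field F] [Fintype F] [Field K] [Fintype K] [Field k]
  {S : Sit p a b F K k}

variable (S) in
/-- the Frobenius map as an automorphism -/
noncomputable def rsl_s : k ≃+* k := RingEquiv.ofBijective S.s ⟨S.s.injective, fun t => by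
  have := S.closed
  obtain ⟨z, hz⟩ := IsAlgClosed.exists_pow_nat_eq t (Nat.card_pos (α := F))
  exact ⟨z, (S.frob z).trans hz⟩⟩

variable (S) in
theorem rsl_s_coe : (S.rsl_s : k →+* k) = S.s := rfl

namespace Alg

variable (A : S.Alg) (hp : p ≠ 2)

/-- the polynomial matrix of the root group -/
noncomputable def PP (i : Fin A.n) : Matrix H943.E7V.Block.D1 H943.E7V.Block.D1 k[X] :=
  Matrix.of fun x y => ∑ m ∈ Finset.range (A.N + 2), monomial m (A.D i m x y)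

theorem PP_ev (i : Fin A.n) (t : k) : rho k (A.Ξ i (u t)) = (A.PP i).map (eval t) := by
  rw [A.poly]
  ext x y
  simp only [Matrix.sum_apply, Matrix.smul_apply, smul_eq_mul, map_apply, PP, of_apply, eval_finsetSum, eval_monomial,
    mul_comm]

theorem PP_one (i : Fin A.n) : co 1 (A.PP i) = del k (A.e i) := by
  rw [← A.D1]
  ext x y
  simp only [co, map_apply, PP, of_apply, finsetSum_coeff, coeff_monomial]
  rw [Finset.sum_ite_eq', if_pos (Finset.mem_range.2 (by omega))]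

/-- the factors in standard position -/
noncomputable def X (i : Fin A.n) : Std k where
  Ξ := (MulAut.conj A.g⁻¹).toMonoidHom.comp (A.Ξ i)
  l := A.l i
  tor z := by
    show A.g⁻¹ * A.Ξ i (h z) * A.g⁻¹⁻¹ = _
    rw [A.tor]
    group
  e := adM k A.g⁻¹ *ᵥ A.e i
  P := (rho k A.g⁻¹).map C * A.PP i * (rho k A.g⁻¹⁻¹).map C
  ev t := by
    show rho k (A.g⁻¹ * A.Ξ i (u t) * A.g⁻¹⁻¹) = _
    rw [map_mul, map_mul, ev_mul, ev_mul, ev_C, ev_C, A.PP_ev]
  one := by rw [co_mul_C, co_C_mul, A.PP_one, Br.del_adM (S.nt_two hp)]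
  ne e := A.ne i (by rw [← mulVec_inv' (adM k) A.g (A.e i), e, mulVec_zero])
  two := S.nt_two hp

theorem X_Ξ (i : Fin A.n) (x : SpecialLinearGroup (Fin 2) k) : (A.X hp i).Ξ x = A.g⁻¹ * A.Ξ i x * A.g := by
  show A.g⁻¹ * A.Ξ i x * A.g⁻¹⁻¹ = _
  rw [inv_inv]

theorem X_l (i : Fin A.n) : (A.X hp i).l = A.l i := rfl

theorem X_e (i : Fin A.n) : (A.X hp i).e = adM k A.g⁻¹ *ᵥ A.e i := rfl

theorem X_comm (i j : Fin A.n) (hij : i ≠ j) (x y : SpecialLinearGroup (Fin 2) k) :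
    (A.X hp i).Ξ x * (A.X hp j).Ξ y = (A.X hp j).Ξ y * (A.X hp i).Ξ x := by
  show MulAut.conj _ _ * MulAut.conj _ _ = MulAut.conj _ _ * MulAut.conj _ _
  rw [← map_mul, ← map_mul, A.comm i j hij]

/-- the Frobenius map permutes the factors -/
theorem tw_σ (i : Fin A.n) (x : SpecialLinearGroup (Fin 2) k) :
    A.g⁻¹ * S.σ A.g * ((A.X hp i).frob S.rsl_s).Ξ x = (A.X hp (A.π i)).Ξ x * (A.g⁻¹ * S.σ A.g) := by
  obtain ⟨y, rfl⟩ : ∃ y, x = SpecialLinearGroup.map (S.rsl_s : k →+* k) y :=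
    ⟨SpecialLinearGroup.map (S.rsl_s.symm : k →+* k) x, Subtype.ext (by
      ext c d
      exact (S.rsl_s.apply_symm_apply _).symm)⟩
  rw [Std.frob_Ξ, rsl_s_coe, X_Ξ, X_Ξ, ← A.frob, map_mul, map_mul, map_inv]
  show _ * ((S.σ A.g)⁻¹ * S.σ _ * S.σ A.g) = _
  group

/-- the maximal subgroup permutes the factors -/
theorem tw_M {m : Gh k} (hm : m ∈ S.M) : ∃ ρ : Equiv.Perm (Fin A.n), ∀ i, ∃ γ y,
    A.g⁻¹ * m * A.g = (A.X hp (ρ i)).Ξ γ * y ∧ ∀ x, y * (A.X hp i).Ξ x = (A.X hp (ρ i)).Ξ x * y := by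
  obtain ⟨ρ, hρ⟩ := A.norm m hm
  refine ⟨ρ, fun i => ?_⟩
  obtain ⟨γ, hγ⟩ := hρ i
  refine ⟨γ, ((A.X hp (ρ i)).Ξ γ)⁻¹ * (A.g⁻¹ * m * A.g), (mul_inv_cancel_left _ _).symm, fun x => ?_⟩
  have h1 := hγ x
  rw [map_mul, map_mul, map_inv, mul_inv_eq_iff_eq_mul] at h1
  rw [X_Ξ, X_Ξ, X_Ξ]
  calc _ = A.g⁻¹ * (A.Ξ (ρ i) γ)⁻¹ * (m * A.Ξ i x) * A.g := by group
    _ = _ := by rw [h1]; group

theorem res_mem {T : Subgroup (Gh k)} (hT : ∀ i x, (A.X hp i).Ξ x ∈ T) (x : SpecialLinearGroup (Fin 2) K) :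
    A.g⁻¹ * S.ψ x * A.g ∈ T := by
  have h1 : S.ψ x ∈ T.comap (MulAut.conj A.g⁻¹).toMonoidHom := by
    rw [A.res]
    exact list_prod_mem fun y hy => by
      obtain ⟨i, rfl⟩ := List.mem_ofFn.1 hy
      exact hT i _
  have h2 : A.g⁻¹ * S.ψ x * A.g⁻¹⁻¹ ∈ T := h1
  rwa [inv_inv] at h2

/-- the Lie algebra of the overgroup -/
noncomputable def ss : Submodule k (chevE7.Idx → k) := (⨆ i, (A.X hp i).sp).comap (toLin' (adM k A.g⁻¹))

theorem mem_ss {z : chevE7.Idx → k} : z ∈ A.ss hp ↔ adM k A.g⁻¹ *ᵥ z ∈ ⨆ i, (A.X hp i).sp := Iff.rfl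

theorem ss_ne : A.ss hp ≠ ⊥ := (Submodule.ne_bot_iff _).2 ⟨A.e ⟨0, A.npos⟩,
  Submodule.mem_iSup_of_mem ⟨0, A.npos⟩ (A.X hp _).e_mem_sp, A.ne _⟩

theorem ss_stb : S.Stb (adM k) (A.ss hp) := by
  have := S.closed
  refine ⟨fun m hm z hz => ?_, fun z hz => ?_⟩
  · obtain ⟨ρ, hρ⟩ := A.tw_M hp hm
    have h1 : ⨆ i, (A.X hp i).sp ≤ (⨆ i, (A.X hp i).sp).comap (toLin' (adM k (A.g⁻¹ * m * A.g))) :=
      iSup_le fun i y hy => by
        obtain ⟨γ, c, e, hc⟩ := hρ i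
        show adM k (A.g⁻¹ * m * A.g) *ᵥ y ∈ ⨆ i, (A.X hp i).sp
        rw [e, mulVec_mul]
        exact Submodule.mem_iSup_of_mem (ρ i) (Std.sp_stab _ _ _ (Std.tw_sp hc y hy))
    have h2 : adM k (A.g⁻¹ * m * A.g) *ᵥ adM k A.g⁻¹ *ᵥ z ∈ ⨆ i, (A.X hp i).sp := h1 ((A.mem_ss hp).1 hz)
    rwa [mulVec_mul, mulVec_inv', mulVec_mul] at h2
  · have h1 : ∀ y ∈ ⨆ i, (A.X hp i).sp, adM k (A.g⁻¹ * S.σ A.g) *ᵥ S.sv y ∈ ⨆ i, (A.X hp i).sp := fun y hy => by
      have hadd : ∀ x y : chevE7.Idx → k, S.sv (x + y) = S.sv x + S.sv y := fun x y => funext fun _ => map_add _ _ _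
      refine Submodule.iSup_induction _ (motive := fun y => adM k (A.g⁻¹ * S.σ A.g) *ᵥ S.sv y ∈ ⨆ i, (A.X hp i).sp) hy
        (fun i y hy => Submodule.mem_iSup_of_mem (A.π i) (Std.tw_sp (A.tw_σ hp i) _ ?_)) ?_ fun x y hx hy => ?_
      · induction hy using Submodule.span_induction with
        | mem z hz =>
          rcases hz with rfl | rfl | rfl
          · exact Std.e_mem_sp _
          · exact ((A.X hp i).frob_hh S.rsl_s ▸ Std.hh_mem_sp ((A.X hp i).frob S.rsl_s) :)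
          · exact ((A.X hp i).frob_f S.rsl_s ▸ Std.f_mem_sp ((A.X hp i).frob S.rsl_s) :)
        | zero => rw [S.nt_sv_zero]; exact zero_mem _
        | add x y _ _ hx hy => rw [hadd]; exact add_mem hx hy
        | smul t x _ hx =>
          rw [show S.sv (t • x) = S.s t • S.sv x from funext fun _ => map_mul _ _ _]
          exact Submodule.smul_mem _ _ hx
      · rw [S.nt_sv_zero, mulVec_zero]; exact zero_mem _
      · rw [hadd, mulVec_add]; exact add_mem hx hy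
    have h2 := h1 _ ((A.mem_ss hp).1 hz)
    rwa [S.sv_mulVec wrep_L, map_inv S.σ, mulVec_mul, mulVec_inv'] at h2

include hp in
theorem conj_l (i j : Fin A.n) : ∃ v, lE (A.l j) = wL v (lE (A.l i)) := by
  have := S.closed
  obtain ⟨m, rfl⟩ := A.trans i j
  induction m with
  | zero => exact ⟨[], rfl⟩
  | succ m ih =>
    obtain ⟨v, hv⟩ := ih
    obtain ⟨v', hv'⟩ := Std.tw_l (A.tw_σ hp ((A.π ^ m) i))
    exact ⟨v' ++ v, by rw [pow_succ', Equiv.Perm.mul_apply, wL_append, ← hv]; exact hv'⟩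

/-- **the family** -/
noncomputable def fam : Fam k p (Fin A.n) where
  X := A.X hp
  prime := S.prime
  char := S.chark
  comm := A.X_comm hp
  conj := A.conj_l hp
  pt c h1 h2 hc := by
    have := S.closed
    refine conj_eq_one_iff.1 (S.ptL hp (S.ssc hp) (A.ss_stb hp) (A.ss_ne hp) (c := A.g * c * A.g⁻¹) (fun y hy => ?_)
      (by rw [conj_pow, hc, mul_one, mul_inv_cancel]))
    have h3 : ⨆ i, (A.X hp i).sp ≤ LinearMap.eqLocus (toLin' (adM k c)) LinearMap.id :=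
      iSup_le fun i => Std.fix_sp (h1 i) (h2 i)
    have h4 : adM k c *ᵥ adM k A.g⁻¹ *ᵥ y = adM k A.g⁻¹ *ᵥ y := h3 hy
    rw [mulVec_mul, mulVec_mul, h4, mulVec_inv']
  irr g β hβ := S.irr hp (S.ssc hp) (g := A.g * g) fun x => by
    have h1 : g⁻¹ * (A.g⁻¹ * S.ψ x * A.g) * g⁻¹⁻¹ ∈ Pl k β :=
      A.res_mem hp (T := (Pl k β).comap (MulAut.conj g⁻¹).toMonoidHom) (fun i x => by
        show g⁻¹ * _ * g⁻¹⁻¹ ∈ Pl k β
        rw [inv_inv]
        exact hβ i x) x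
    rwa [show (A.g * g)⁻¹ * S.ψ x * (A.g * g) = g⁻¹ * (A.g⁻¹ * S.ψ x * A.g) * g⁻¹⁻¹ by group]
  fixV y hy := by
    have h1 := S.nofixV hp (S.ssc hp) (rho k A.g *ᵥ y) fun x => by
      have h2 := A.res_mem hp (T := Fx (rho k) (Submodule.span k {y})) (fun i x z hz => by
        obtain ⟨t, rfl⟩ := Submodule.mem_span_singleton.1 hz
        rw [mulVec_smul, hy]) x y (Submodule.mem_span_singleton_self y)
      rw [mulVec_mul, mulVec_mul] at h2
      conv_rhs => rw [← h2, mulVec_inv']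
    rw [← mulVec_inv (rho k) A.g y, h1, mulVec_zero]
  fixL y hy := by
    have h1 := S.nofix hp (S.ssc hp) (adM k A.g *ᵥ y) fun x => by
      have h2 := A.res_mem hp (T := Fx (adM k) (Submodule.span k {y})) (fun i x z hz => by
        obtain ⟨t, rfl⟩ := Submodule.mem_span_singleton.1 hz
        rw [mulVec_smul, hy]) x y (Submodule.mem_span_singleton_self y)
      rw [mulVec_mul, mulVec_mul] at h2
      conv_rhs => rw [← h2, mulVec_inv']
    rw [← mulVec_inv (adM k) A.g y, h1, mulVec_zero]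

theorem fam_X (i : Fin A.n) : (A.fam hp).X i = A.X hp i := rfl

include hp in
/-- the Frobenius map fixes the parabolic subgroup of the sum of the cocharacters -/
theorem σ_mem_Pl : A.g⁻¹ * S.σ A.g ∈ Pl k (lE (∑ i, A.l i)) := by
  have := S.closed
  refine mem_Pl_of_tri fun x y e => ?_
  rw [wv, wv, ← lev_cast, ← lev_cast, sum_lev, sum_lev, ← Equiv.sum_comp A.π (fun i => lev (A.l i) (wc x))]
  exact (congrArg _ (Finset.sum_congr rfl fun i _ => Std.tw_V_n (A.tw_σ hp i) e)).ge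

end Alg

end Sit

end Cfsg.Agent.E7P
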